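import Cfsg.Agent.Lib.BTBlock.NaturalModules
import Cfsg.Agent.Lib.Amalgam.CharP
import Cfsg.Agent.Lib.Coprime.Sylow
import Cfsg.Agent.Lib.PGroup.Thompson
import Cfsg.Agent.Lib.Transfer.Criteria
import Cfsg.Prelude.Def_BaumannBlocks

/-!
# Blocks relative to the Baumann subgroup: basic properties
-/

set_option autoImplicit false

namespace Cfsg.Agent.Lib.BTBlock

open Subgroup Cfsg
open scoped commutatorElement

universe u

variable {G : Type u} [Group G] {p : ℕ}

/-- `H` normalises `⁅K, H⁆`. -/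
theorem le_normalizer_commutator_right (K H : Subgroup G) :
    H ≤ normalizer ((⁅K, H⁆ : Subgroup G) : Set G) := by
  refine Coprime.le_normalizer_of_conj_mem ?_
  intro b hb x hx
  have hle : (⁅K, H⁆ : Subgroup G) ≤ (⁅K, H⁆ : Subgroup G).comap (MulAut.conj b).toMonoidHom := by
    rw [commutator_le]
    intro e he b' hb'
    rw [mem_comap]
    have h1 : (MulAut.conj b).toMonoidHom ⁅e, b'⁆ = ⁅e, b⁆⁻¹ * ⁅e, b * b'⁆ := by
      simp only [MulEquiv.toMonoidHom_eq_coe, MonoidHom.coe_coe, MulAut.conj_apply,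
        commutatorElement_def]
      group
    rw [h1]
    exact mul_mem (inv_mem (commutator_mem_commutator he hb))
      (commutator_mem_commutator he (H.mul_mem hb hb'))
  exact hle hx

theorem conj_mem_iff {K : Subgroup G} {g : G} (hg : g ∈ normalizer (K : Set G)) (x : G) :
    g * x * g⁻¹ ∈ K ↔ x ∈ K := (mem_normalizer_iff.mp hg x).symm

/-! ### Elements of order prime to `p` in `N ⊔ E` -/

/-- A `p'`-element of `N ⊔ E`, for a `p`-group `N` normalising `E`, lies in `E`. -/
theorem mem_of_coprime_of_sup [Finite G] [Fact p.Prime] {N E : Subgroup G} (hN : IsPGroup p N)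
    (hNE : N ≤ normalizer (E : Set G)) {x : G} (hx : x ∈ N ⊔ E) (hxo : (orderOf x).Coprime p) :
    x ∈ E := by
  have hle : N ⊔ E ≤ normalizer (E : Set G) := sup_le hNE le_normalizer
  set H := N ⊔ E with hH
  haveI : (E.subgroupOf H).Normal := normal_subgroupOf_of_le_normalizer hle
  let f := QuotientGroup.mk' (E.subgroupOf H)
  have hrange : IsPGroup p (H ⧸ E.subgroupOf H) := by
    refine (hN.of_equiv (subgroupOfEquivOfLe (le_sup_left : N ≤ H)).symm).of_surjective
      (f.comp (N.subgroupOf H).subtype) fun y => ?_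
    obtain ⟨⟨z, hz⟩, rfl⟩ := QuotientGroup.mk'_surjective (E.subgroupOf H) y
    have hz' : z ∈ (↑(N ⊔ E) : Set G) := hz
    rw [sup_comm, coe_mul_of_right_le_normalizer_left E N hNE] at hz'
    obtain ⟨e, he, n, hn, rfl⟩ := hz'
    refine ⟨⟨⟨n, (le_sup_left : N ≤ H) hn⟩, hn⟩, ?_⟩
    refine (QuotientGroup.eq.mpr ?_)
    rw [mem_subgroupOf]
    simpa [mul_assoc] using conj_mem_iff (inv_mem (hNE hn)) e |>.mpr he
  have h1 : f ⟨x, hx⟩ = 1 := by
    obtain ⟨k, hk⟩ := IsPGroup.iff_orderOf.mp hrange (f ⟨x, hx⟩)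
    have hd : orderOf (f ⟨x, hx⟩) ∣ orderOf x :=
      (orderOf_map_dvd f _).trans (by rw [← orderOf_coe])
    rw [← orderOf_eq_one_iff]
    rw [hk] at hd ⊢
    exact Nat.eq_one_of_dvd_coprimes (hxo.pow_right k) hd dvd_rfl
  exact mem_subgroupOf.mp ((QuotientGroup.eq_one_iff (⟨x, hx⟩ : H)).mp h1)

theorem pResidualOf_eq_closure (E : Subgroup G) :
    pResidualOf p E = closure {g : G | g ∈ E ∧ (orderOf g).Coprime p} := by
  rw [pResidualOf, pResidual, MonoidHom.map_closure]
  congr 1
  ext g
  constructor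
  · rintro ⟨x, hx, rfl⟩
    exact ⟨x.2, by rw [Subgroup.subtype_apply, orderOf_coe]; exact hx⟩
  · rintro ⟨hg, ho⟩
    exact ⟨⟨g, hg⟩, by rw [Set.mem_ofPred_eq, orderOf_mk]; exact ho, rfl⟩

/-! ### The Baumann subgroup is weakly closed -/

theorem baumann_map {G' : Type u} [Group G'] (e : G ≃* G') (T : Subgroup G) :
    baumannSubgroupOf p (T.map e.toMonoidHom) =
      (baumannSubgroupOf p T).map e.toMonoidHom := by
  have hinj : Function.Injective e.toMonoidHom := e.injective
  have hc : ∀ X : Subgroup G, centralizer ((X.map e.toMonoidHom : Subgroup G') : Set G') =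
      (centralizer (X : Set G)).map e.toMonoidHom := fun X => by
    ext y
    rw [mem_map_equiv, mem_centralizer_iff, mem_centralizer_iff]
    constructor
    · intro h x hx
      have := h (e x) ⟨x, hx, rfl⟩
      apply e.injective
      simpa using this
    · rintro h _ ⟨x, hx, rfl⟩
      have := congrArg e (h x hx)
      simpa using this
  rw [baumannSubgroupOf, baumannSubgroupOf, centerThompsonOf, centerThompsonOf,
    Thompson.thompsonSubgroupOf_map hinj, hc, ← map_inf _ _ _ hinj, Amalgam.omegaOne_map' _ hinj,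
    hc, ← map_inf _ _ _ hinj]

theorem thompson_le_baumann (T : Subgroup G) : thompsonSubgroupOf p T ≤ baumannSubgroupOf p T :=
  le_inf (Thompson.thompsonSubgroupOf_le p T)
    (Subgroup.le_centralizer_iff.mp ((Amalgam.omegaOne_le p _).trans inf_le_right))

variable [Finite G] [Fact p.Prime]

/-- A `p`-group normalised by `B(T)` normalises it. -/
theorem le_normalizer_baumann (T : Sylow p G) {Q : Subgroup G} (hQ : IsPGroup p Q)
    (hBQ : baumannSubgroupOf p (T : Subgroup G) ≤ normalizer (Q : Set G)) :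
    Q ≤ normalizer ((baumannSubgroupOf p (T : Subgroup G) : Subgroup G) : Set G) := by
  set B := baumannSubgroupOf p (T : Subgroup G) with hB
  have hBp : IsPGroup p B := T.2.to_le inf_le_left
  obtain ⟨T', hT'⟩ := (hQ.to_sup_of_normal_left' hBp hBQ).exists_le_sylow
  obtain ⟨g, hg⟩ := MulAction.exists_smul_eq G T T'
  have hT'eq : (T' : Subgroup G) = (T : Subgroup G).map (MulAut.conj g).toMonoidHom := by
    rw [← hg]; rfl
  set f : G →* G := (MulAut.conj g).toMonoidHom with hf
  have hfi : Function.Injective f := (MulAut.conj g).injective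
  have hJle : thompsonSubgroupOf p (T : Subgroup G) ≤ thompsonSubgroupOf p (T' : Subgroup G) := by
    rw [Thompson.thompsonSubgroupOf_eq_sSup]
    refine sSup_le fun A hA => Thompson.le_thompsonSubgroupOf ⟨hA.1, ?_, fun C hC hCT' => ?_⟩
    · exact ((Thompson.le_thompsonSubgroupOf hA).trans (thompson_le_baumann _)).trans
        (le_sup_right.trans hT')
    · obtain ⟨A', hA'⟩ := Thompson.exists_mem_maxIn p (T : Subgroup G)
      have hA'' := Thompson.map_mem_maxIn (p := p) hfi hA'
      rw [← hT'eq] at hA''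
      calc Nat.card C ≤ Nat.card (A'.map f) := hA''.2.2 C hC hCT'
        _ = Nat.card A' := Subgroup.card_map_of_injective hfi
        _ ≤ Nat.card A := hA.2.2 A' hA'.1 hA'.2.1
  have hJ : thompsonSubgroupOf p (T : Subgroup G) = thompsonSubgroupOf p (T' : Subgroup G) := by
    refine eq_of_le_of_card_ge hJle (le_of_eq ?_)
    rw [hT'eq, Thompson.thompsonSubgroupOf_map hfi, Subgroup.card_map_of_injective hfi]
  have hBB : B = baumannSubgroupOf p (T' : Subgroup G) := by
    refine eq_of_le_of_card_ge ?_ (le_of_eq ?_)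
    · refine le_inf (le_sup_right.trans hT') ?_
      have hz : centerThompsonOf p (T' : Subgroup G) = centerThompsonOf p (T : Subgroup G) := by
        rw [centerThompsonOf, centerThompsonOf, hJ]
      rw [hz]
      exact inf_le_right
    · rw [hT'eq, baumann_map, Subgroup.card_map_of_injective (MulAut.conj g).injective]
  intro q hq
  refine Amalgam.mem_normalizer_of_map_conj_eq ?_
  rw [hBB, ← baumann_map, Amalgam.map_conj_eq_of_mem (hT' (le_sup_left (a := Q) hq))]

variable {T : Sylow p G} {E : Subgroup G}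

theorem baumann_le_normalizer (hE : IsBaumannBlock p (T : Subgroup G) E) :
    baumannSubgroupOf p (T : Subgroup G) ≤ normalizer (E : Set G) := by
  have := le_normalizer_commutator_right E (baumannSubgroupOf p (T : Subgroup G))
  rwa [hE.2.1] at this

/-- A `p`-subgroup normalised by `B(T)` and by the block normalises the block. -/
theorem le_normalizer_of_normalized (hE : IsBaumannBlock p (T : Subgroup G) E) {Q : Subgroup G}
    (hQ : IsPGroup p Q) (hBQ : baumannSubgroupOf p (T : Subgroup G) ≤ normalizer (Q : Set G))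
    (hEQ : E ≤ normalizer (Q : Set G)) : Q ≤ normalizer (E : Set G) := by
  set B := baumannSubgroupOf p (T : Subgroup G)
  set N := Q ⊓ normalizer (E : Set G) with hN
  by_contra hcon
  have hlt : N < Q := lt_of_le_of_ne inf_le_left fun h => hcon (inf_eq_left.mp h)
  set M := Q ⊓ normalizer (N : Set G) with hM
  have hNM : N < M := Transfer.lt_inf_normalizer hQ hlt
  have hBE := baumann_le_normalizer hE
  have hnN : ∀ X : Subgroup G, X ≤ normalizer (Q : Set G) → X ≤ normalizer (E : Set G) →
      X ≤ normalizer (N : Set G) := fun X h1 h2 => by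
    refine Coprime.le_normalizer_of_conj_mem fun a ha x hx => ⟨?_, ?_⟩
    · exact (conj_mem_iff (h1 ha) x).mpr hx.1
    · exact (normalizer (E : Set G)).mul_mem ((normalizer (E : Set G)).mul_mem (h2 ha) hx.2)
        ((normalizer (E : Set G)).inv_mem (h2 ha))
  have hnM : ∀ X : Subgroup G, X ≤ normalizer (Q : Set G) → X ≤ normalizer (N : Set G) →
      X ≤ normalizer (M : Set G) := fun X h1 h2 => by
    refine Coprime.le_normalizer_of_conj_mem fun a ha x hx => ⟨?_, ?_⟩
    · exact (conj_mem_iff (h1 ha) x).mpr hx.1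
    · exact (normalizer (N : Set G)).mul_mem ((normalizer (N : Set G)).mul_mem (h2 ha) hx.2)
        ((normalizer (N : Set G)).inv_mem (h2 ha))
  set H := normalizer (M : Set G) ⊓ normalizer (N : Set G) with hH
  have hEH : E ≤ H := le_inf (hnM E hEQ (hnN E hEQ le_normalizer)) (hnN E hEQ le_normalizer)
  have hBH : B ≤ H := le_inf (hnM B hBQ (hnN B hBQ hBE)) (hnN B hBQ hBE)
  have hQB : Q ≤ normalizer (B : Set G) := le_normalizer_baumann T hQ hBQ
  -- elements trivial on `M / N`
  let C : Subgroup G :=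
    { carrier := {x | x ∈ H ∧ ∀ m ∈ M, x * m * x⁻¹ * m⁻¹ ∈ N}
      one_mem' := ⟨H.one_mem, fun m _ => by simp [N.one_mem]⟩
      mul_mem' := fun {x y} hx hy => ⟨H.mul_mem hx.1 hy.1, fun m hm => by
        have h1 := hy.2 m hm
        have h2 : x * (y * m * y⁻¹ * m⁻¹) * x⁻¹ ∈ N := (conj_mem_iff hx.1.2 _).mpr h1
        have h3 := N.mul_mem h2 (hx.2 m hm)
        convert h3 using 1
        group⟩
      inv_mem' := fun {x} hx => ⟨H.inv_mem hx.1, fun m hm => by
        have hm' : x⁻¹ * m * x⁻¹⁻¹ ∈ M := (conj_mem_iff (H.inv_mem hx.1).1 m).mpr hm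
        have h2 := N.inv_mem (hx.2 _ hm')
        convert h2 using 1
        group⟩ }
  have hCn : ∀ h ∈ H, ∀ x ∈ C, h * x * h⁻¹ ∈ C := fun h hh x hx => by
    refine ⟨mul_mem (mul_mem hh hx.1) (inv_mem hh), fun m hm => ?_⟩
    have hm' : h⁻¹ * m * h⁻¹⁻¹ ∈ M := (conj_mem_iff (H.inv_mem hh).1 m).mpr hm
    have h1 := (conj_mem_iff hh.2 _).mpr (hx.2 _ hm')
    convert h1 using 1
    group
  have hBC : B ≤ C := fun b hb => by
    refine ⟨hBH hb, fun m hm => ?_⟩
    have h1 : b * m * b⁻¹ * m⁻¹ ∈ Q := mul_mem ((conj_mem_iff (hBQ hb) m).mpr hm.1) (inv_mem hm.1)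
    refine ⟨h1, hBE ?_⟩
    have h2 : m * b⁻¹ * m⁻¹ ∈ B := (conj_mem_iff (hQB hm.1) _).mpr (inv_mem hb)
    simpa [mul_assoc] using mul_mem hb h2
  have hEC : E ≤ C := by
    rw [← hE.2.1, commutator_le]
    intro e he b hb
    rw [commutatorElement_def]
    exact mul_mem (hCn e (hEH he) b (hBC hb)) (inv_mem (hBC hb))
  have hle : M ≤ normalizer (E : Set G) := by
    refine Coprime.le_normalizer_of_conj_mem ?_
    intro m hm x hx
    have hmem : ∀ y ∈ E, m * y * m⁻¹ ∈ N ⊔ E := fun y hy => by
      have h1 : y * (m : G) * y⁻¹ * m⁻¹ ∈ N := (hEC hy).2 m hm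
      have h2 := mul_mem (mem_sup_left (T := E) (inv_mem h1)) (mem_sup_right (S := N) hy)
      convert h2 using 1
      group
    have hE1 : E ≤ E.comap (MulAut.conj m).toMonoidHom := by
      conv_lhs => rw [← hE.1, pResidualOf_eq_closure]
      rw [closure_le]
      rintro y ⟨hy, hyo⟩
      refine mem_of_coprime_of_sup (hQ.to_le hlt.le) inf_le_right (hmem y hy) ?_
      exact (MulEquiv.orderOf_eq (MulAut.conj m) y).symm ▸ hyo
    exact hE1 hx
  exact hNM.not_ge (le_inf inf_le_left hle)

end Cfsg.Agent.Lib.BTBlock
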