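import Cfsg.Agent.Lib.BTBlock.Section
import Cfsg.Agent.Lib.PSolvable.Core

/-!
# Blocks in a group of characteristic `p`
-/

set_option autoImplicit false

namespace Cfsg.Agent.Lib.BTBlock

open Subgroup Cfsg
open scoped commutatorElement

universe u

variable {G : Type u} [Group G] [Finite G] {p : ℕ} [Fact p.Prime] {T : Sylow p G} {E : Subgroup G}

theorem le_normalizer_pCore (X : Subgroup G) : X ≤ normalizer ((pCore p G : Subgroup G) : Set G) := by
  rw [normalizer_eq_top (pCore p G)]; exact le_top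

theorem pCore_le_normalizer (hE : IsBaumannBlock p (T : Subgroup G) E) :
    pCore p G ≤ normalizer (E : Set G) :=
  le_normalizer_of_normalized hE PSolvable.pCore_isPGroup (le_normalizer_pCore _)
    (le_normalizer_pCore E)

theorem pResidualOf_sup_pCore (hE : IsBaumannBlock p (T : Subgroup G) E) :
    pResidualOf p (E ⊔ pCore p G) = E := by
  refine le_antisymm ?_ ?_
  · rw [pResidualOf_eq_closure, closure_le]
    rintro x ⟨hx, hxo⟩
    exact mem_of_coprime_of_sup PSolvable.pCore_isPGroup (pCore_le_normalizer hE)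
      (sup_comm E (pCore p G) ▸ hx) hxo
  · conv_lhs => rw [← hE.1]
    rw [pResidualOf_eq_closure, pResidualOf_eq_closure]
    exact closure_mono fun x hx => ⟨mem_sup_left hx.1, hx.2⟩

theorem inf_pCore_le (E : Subgroup G) : E ⊓ pCore p G ≤ pCoreOf p E := fun x hx =>
  ⟨⟨x, hx.1⟩, PSolvable.le_pCore (N := (pCore p G).subgroupOf E)
    (PSolvable.pCore_isPGroup.comap_subtype) hx.2, rfl⟩

/-- `O_p(G)` centralises `[Ω₁(Z(O_p(E))), E]`, which lies in its centre. -/
theorem commutator_section_le (hG : centralizer (pCore p G : Set G) ≤ pCore p G)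
    (hE : IsBaumannBlock p (T : Subgroup G) E) :
    ⁅omegaOneCenter p (pCoreOf p E), E⁆ ≤ omegaOneCenter p (pCore p G) := by
  classical
  set R := pCore p G with hR
  set U := omegaOneCenter p (pCoreOf p E) with hU
  set Z := U ⊓ centralizer (E : Set G) with hZ
  obtain ⟨-, hUc, hUexp⟩ := omegaOneCenter_props p (pCoreOf p E)
  have hUQ : U ≤ pCoreOf p E := (omegaOneCenter_props p (pCoreOf p E)).1
  have hRp : IsPGroup p R := PSolvable.pCore_isPGroup
  obtain ⟨hRQ, hRU, hRZ⟩ := le_normalizer_section (p := p) E (pCore_le_normalizer hE)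
  obtain ⟨hEQ, hEU, hEZ⟩ := le_normalizer_section (p := p) E (le_normalizer (H := E))
  obtain ⟨hirr, -, hne⟩ := block_section hE
  have hUcomm : ∀ a ∈ U, ∀ b ∈ U, a * b = b * a := fun a ha b hb =>
    mem_centralizer_iff.mp (hUc hb) a (hUQ ha)
  -- conjugation by `E` and by `R` commute on `U`
  have hcomm : ∀ e ∈ E, ∀ r ∈ R, ∀ u ∈ U,
      e * (r * u * r⁻¹) * e⁻¹ = r * (e * u * e⁻¹) * r⁻¹ := by
    intro e he r hr u hu
    have hq : e * r * e⁻¹ * r⁻¹ ∈ pCoreOf p E := by
      refine inf_pCore_le E ⟨?_, R.mul_mem ((conj_mem_iff (le_normalizer_pCore E he) r).mpr hr)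
        (R.inv_mem hr)⟩
      have := (conj_mem_iff (pCore_le_normalizer hE hr) e⁻¹).mpr (inv_mem he)
      simpa [mul_assoc] using mul_mem he this
    have hx : r * (e * u * e⁻¹) * r⁻¹ ∈ U :=
      (conj_mem_iff (hRU hr) _).mpr ((conj_mem_iff (hEU he) u).mpr hu)
    have h1 := mem_centralizer_iff.mp (hUc hx) _ hq
    calc e * (r * u * r⁻¹) * e⁻¹
        = e * r * e⁻¹ * r⁻¹ * (r * (e * u * e⁻¹) * r⁻¹) * (e * r * e⁻¹ * r⁻¹)⁻¹ := by group
      _ = r * (e * u * e⁻¹) * r⁻¹ := by rw [h1, mul_inv_cancel_right]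
  -- the elements of `U` fixed by `R` modulo `Z`
  let S0 : Subgroup G :=
    { carrier := {u | u ∈ U ∧ ∀ r ∈ R, r * u * r⁻¹ * u⁻¹ ∈ Z}
      one_mem' := ⟨U.one_mem, fun r _ => by simp [Z.one_mem]⟩
      mul_mem' := fun {a b} ha hb => ⟨U.mul_mem ha.1 hb.1, fun r hr => by
        have h1 := Z.mul_mem (ha.2 r hr) (hb.2 r hr)
        have h2 := hUcomm _ ((Z.mul_mem (hb.2 r hr) Z.one_mem)).1 a⁻¹ (inv_mem ha.1)
        convert h1 using 1
        rw [mul_one] at h2
        calc r * (a * b) * r⁻¹ * (a * b)⁻¹ = (r * a * r⁻¹) * ((r * b * r⁻¹ * b⁻¹) * a⁻¹) := by group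
          _ = (r * a * r⁻¹) * (a⁻¹ * (r * b * r⁻¹ * b⁻¹)) := by rw [h2]
          _ = (r * a * r⁻¹ * a⁻¹) * (r * b * r⁻¹ * b⁻¹) := by group⟩
      inv_mem' := fun {a} ha => ⟨U.inv_mem ha.1, fun r hr => by
        have h1 := Z.inv_mem (ha.2 r hr)
        have h2 := hUcomm _ h1.1 a (ha.1)
        convert h1 using 1
        calc r * a⁻¹ * r⁻¹ * a⁻¹⁻¹ = (r * a * r⁻¹ * a⁻¹ * a)⁻¹ * a := by group
          _ = a⁻¹ * ((r * a * r⁻¹ * a⁻¹)⁻¹ * a) := by group
          _ = a⁻¹ * (a * (r * a * r⁻¹ * a⁻¹)⁻¹) := by rw [h2]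
          _ = (r * a * r⁻¹ * a⁻¹)⁻¹ := by group⟩ }
  have hS0 : S0 = U := by
    rcases hirr S0 (fun z hz => ⟨hz.1, fun r hr => Z.mul_mem
        ((conj_mem_iff (hRZ hr) z).mpr hz) (Z.inv_mem hz)⟩) (fun u hu => hu.1)
        (Coprime.le_normalizer_of_conj_mem fun e he u hu => ⟨(conj_mem_iff (hEU he) u).mpr hu.1,
          fun r hr => by
            have := (conj_mem_iff (hEZ he) _).mpr (hu.2 r hr)
            convert this using 1
            rw [← hcomm e he r hr u hu.1]
            group⟩) with h | h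
    · exfalso
      set Z' := Z.subgroupOf U with hZ'
      have hsm : ∀ (r : R) (u : U), (r : G) * u * (r : G)⁻¹ ∈ U := fun r u =>
        (conj_mem_iff (hRU r.2) _).mpr u.2
      let smulFun : R → U ⧸ Z' → U ⧸ Z' := fun r =>
        Quotient.map' (fun u => ⟨(r : G) * u * (r : G)⁻¹, hsm r u⟩) fun a b hab => by
          rw [QuotientGroup.leftRel_apply, mem_subgroupOf] at hab ⊢
          have := (conj_mem_iff (hRZ r.2) _).mpr hab
          simp only [coe_mul, coe_inv] at this ⊢
          convert this using 1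
          group
      let act : MulAction R (U ⧸ Z') :=
        { smul := smulFun
          one_smul := fun x => by
            induction x using QuotientGroup.induction_on with
            | H u => exact congrArg QuotientGroup.mk (Subtype.ext (by simp))
          mul_smul := fun a b x => by
            induction x using QuotientGroup.induction_on with
            | H u => exact congrArg QuotientGroup.mk (Subtype.ext (by simp [mul_assoc])) }
      have hUp : IsPGroup p U := (Amalgam.isPGroup_pCoreOf E).to_le hUQ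
      have hdvd : p ∣ Nat.card (U ⧸ Z') := by
        obtain ⟨k, hk⟩ := hUp.index Z'
        rw [← index_eq_card, hk]
        refine dvd_pow_self p fun h0 => hne ?_
        rw [h0, pow_zero, index_eq_one, hZ', subgroupOf_eq_top] at hk
        exact le_antisymm inf_le_left hk
      obtain ⟨b, hb, hb1⟩ := hRp.exists_fixed_point_of_prime_dvd_card_of_fixed_point (U ⧸ Z') hdvd
        (a := ((1 : U) : U ⧸ Z')) (fun r => congrArg QuotientGroup.mk (Subtype.ext (by simp)))
      induction b using QuotientGroup.induction_on with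
      | H u =>
        have hu : (u : G) ∈ S0 := ⟨u.2, fun r hr => by
          have h1 := QuotientGroup.eq.mp (hb ⟨r, hr⟩)
          rw [mem_subgroupOf] at h1
          have h3 : r * (u : G) * r⁻¹ ∈ U := hsm ⟨r, hr⟩ u
          have h2 := Z.inv_mem h1
          simp only [coe_mul, coe_inv] at h2
          have h4 := hUcomm _ h3 _ (inv_mem u.2)
          have h5 : ((r * (u : G) * r⁻¹)⁻¹ * u)⁻¹ = r * u * r⁻¹ * (u : G)⁻¹ := by
            rw [mul_inv_rev, inv_inv, ← h4]
          exact h5 ▸ h2⟩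
        rw [h] at hu
        exact hb1 (QuotientGroup.eq.mpr (by rw [inv_one, one_mul, mem_subgroupOf]; exact hu))
    · exact h
  -- hence `R` centralises `⁅U, E⁆`
  have hWU : ⁅U, E⁆ ≤ U := Coprime.commutator_le_of_le_normalizer hEU
  have hcent : ⁅U, E⁆ ≤ centralizer (R : Set G) := by
    rw [commutator_le]
    intro u hu e he
    rw [mem_centralizer_iff]
    intro r hr
    have hz : r * u * r⁻¹ * u⁻¹ ∈ Z := (hS0.ge hu).2 r hr
    set z := r * u * r⁻¹ * u⁻¹ with hzdef
    have he' : e * z * e⁻¹ = z := by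
      rw [mem_centralizer_iff.mp hz.2 e he, mul_inv_cancel_right]
    have hru : r * u * r⁻¹ = z * u := by rw [hzdef]; group
    have h2 : r * (e * u⁻¹ * e⁻¹) * r⁻¹ = e * u⁻¹ * e⁻¹ * z⁻¹ := by
      rw [← hcomm e he r hr u⁻¹ (inv_mem hu),
        show r * u⁻¹ * r⁻¹ = u⁻¹ * z⁻¹ by rw [hzdef]; group]
      calc e * (u⁻¹ * z⁻¹) * e⁻¹ = e * u⁻¹ * e⁻¹ * (e * z * e⁻¹)⁻¹ := by group
        _ = e * u⁻¹ * e⁻¹ * z⁻¹ := by rw [he']
    have hw : u * (e * u⁻¹ * e⁻¹) ∈ U :=
      U.mul_mem hu ((conj_mem_iff (hEU he) _).mpr (inv_mem hu))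
    have h3 : r * ⁅u, e⁆ * r⁻¹ = ⁅u, e⁆ := by
      rw [commutatorElement_def]
      calc r * (u * e * u⁻¹ * e⁻¹) * r⁻¹
          = (r * u * r⁻¹) * (r * (e * u⁻¹ * e⁻¹) * r⁻¹) := by group
        _ = z * (u * (e * u⁻¹ * e⁻¹)) * z⁻¹ := by rw [hru, h2]; group
        _ = (u * (e * u⁻¹ * e⁻¹)) * z * z⁻¹ := by rw [hUcomm z hz.1 _ hw]
        _ = u * e * u⁻¹ * e⁻¹ := by group
    calc r * ⁅u, e⁆ = r * ⁅u, e⁆ * r⁻¹ * r := by group
      _ = ⁅u, e⁆ * r := by rw [h3]
  intro x hx
  exact subset_closure ⟨⟨hG (hcent hx), hcent hx⟩, hUexp x (hWU hx)⟩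

/-- `J(T)` does not centralise `[Ω₁(Z(O_p(E))), E]`. -/
theorem commutator_thompson_ne_bot (hG : centralizer (pCore p G : Set G) ≤ pCore p G)
    (hE : IsBaumannBlock p (T : Subgroup G) E) :
    ⁅⁅omegaOneCenter p (pCoreOf p E), E⁆, thompsonSubgroupOf p (T : Subgroup G)⁆ ≠ ⊥ := by
  intro h0
  set U := omegaOneCenter p (pCoreOf p E) with hU
  set Z := U ⊓ centralizer (E : Set G) with hZ
  set W := ⁅U, E⁆ with hW
  set J := thompsonSubgroupOf p (T : Subgroup G)
  set B := baumannSubgroupOf p (T : Subgroup G)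
  obtain ⟨-, hUc, hUexp⟩ := omegaOneCenter_props p (pCoreOf p E)
  obtain ⟨hirr, hfaith, hne⟩ := block_section hE
  obtain ⟨-, hEU, hEZ⟩ := le_normalizer_section (p := p) E (le_normalizer (H := E))
  obtain ⟨-, hBU, hBZ⟩ := le_normalizer_section (p := p) E (baumann_le_normalizer hE)
  have hWJ : W ≤ centralizer (J : Set G) := commutator_eq_bot_iff_le_centralizer.mp h0
  have hWU : W ≤ U := Coprime.commutator_le_of_le_normalizer hEU
  have hWR : W ≤ pCore p G :=
    (commutator_section_le hG hE).trans ((omegaOneCenter_props p _).1)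
  -- `B(T)` centralises `W`
  have hWB : B ≤ centralizer (W : Set G) := by
    refine inf_le_right.trans (centralizer_le ?_)
    intro w hw
    have hwT : w ∈ (T : Subgroup G) := Amalgam.pCore_le_sylow' T (hWR hw)
    refine subset_closure ⟨⟨Thompson.mem_of_mem_centralizer hwT (hUexp w (hWU hw)) (hWJ hw),
      hWJ hw⟩, hUexp w (hWU hw)⟩
  -- `U = W Z`
  have hsup : W ⊔ Z = U := by
    rcases hirr (W ⊔ Z) le_sup_right (sup_le hWU inf_le_left) (Coprime.le_normalizer_of_conj_mem
      fun e he x hx => by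
        rw [← mem_carrier] at hx ⊢
        have hn : E ≤ normalizer (W : Set G) := le_normalizer_commutator_right U E
        have : (W ⊔ Z).map (MulAut.conj e).toMonoidHom ≤ W ⊔ Z := by
          rw [Subgroup.map_sup]
          refine sup_le_sup ?_ ?_ <;> rintro _ ⟨y, hy, rfl⟩
          · exact (conj_mem_iff (hn he) y).mpr hy
          · exact (conj_mem_iff (hEZ he) y).mpr hy
        exact this ⟨x, hx, rfl⟩) with h | h
    · exfalso
      have hWZ : W ≤ Z := le_sup_left.trans h.le
      have hall : ∀ e ∈ E, e ∈ pCoreOf p E := fun e he => hfaith e he fun u hu => by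
        have h1 : ⁅u, e⁆ ∈ Z := hWZ (commutator_mem_commutator hu he)
        have h2 := Z.inv_mem h1
        convert h2 using 1
        rw [commutatorElement_def]; group
      apply card_quot_ne_one hE
      rw [← index_eq_card, index_eq_one, eq_top_iff]
      intro e _
      obtain ⟨e', he', hee⟩ := hall e e.2
      rwa [Subtype.ext hee] at he'
    · exact h
  -- so it acts trivially on `U / Z`, and then so does `E = ⁅E, B(T)⁆`
  have hN : ∀ X : Subgroup G, X ≤ normalizer (U : Set G) → X ≤ normalizer (Z : Set G) →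
      X ≤ normalizer (U : Set G) ⊓ normalizer (Z : Set G) := fun X => le_inf
  set H := normalizer (U : Set G) ⊓ normalizer (Z : Set G)
  let K : Subgroup G :=
    { carrier := {x | x ∈ H ∧ ∀ u ∈ U, x * u * x⁻¹ * u⁻¹ ∈ Z}
      one_mem' := ⟨H.one_mem, fun u _ => by simp [Z.one_mem]⟩
      mul_mem' := fun {x y} hx hy => ⟨H.mul_mem hx.1 hy.1, fun u hu => by
        have h3 := Z.mul_mem ((conj_mem_iff hx.1.2 _).mpr (hy.2 u hu)) (hx.2 u hu)
        convert h3 using 1
        group⟩
      inv_mem' := fun {x} hx => ⟨H.inv_mem hx.1, fun u hu => by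
        have h2 := Z.inv_mem (hx.2 _ ((conj_mem_iff (H.inv_mem hx.1).1 u).mpr hu))
        convert h2 using 1
        group⟩ }
  have hKn : ∀ h ∈ H, ∀ x ∈ K, h * x * h⁻¹ ∈ K := fun h hh x hx => by
    refine ⟨mul_mem (mul_mem hh hx.1) (inv_mem hh), fun u hu => ?_⟩
    have h1 := (conj_mem_iff hh.2 _).mpr (hx.2 _ ((conj_mem_iff (H.inv_mem hh).1 u).mpr hu))
    convert h1 using 1
    group
  have hBK : B ≤ K := fun b hb => by
    refine ⟨hN B hBU hBZ hb, fun u hu => ?_⟩
    have hu' : u ∈ (↑(W ⊔ Z) : Set G) := by rw [hsup]; exact hu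
    rw [coe_mul_of_left_le_normalizer_right W Z] at hu'
    · obtain ⟨w, hw, z, hz, rfl⟩ := hu'
      have hbw : b * w * b⁻¹ = w := by
        rw [← mem_centralizer_iff.mp (hWB hb) w hw, mul_inv_cancel_right]
      have hz' : b * z * b⁻¹ * z⁻¹ ∈ Z := mul_mem ((conj_mem_iff (hBZ hb) z).mpr hz) (inv_mem hz)
      have hc : w * (b * z * b⁻¹ * z⁻¹) = (b * z * b⁻¹ * z⁻¹) * w :=
        mem_centralizer_iff.mp (hUc hz'.1) w ((omegaOneCenter_props p _).1 (hWU hw))
      convert hz' using 1
      calc b * (w * z) * b⁻¹ * (w * z)⁻¹ = (b * w * b⁻¹) * (b * z * b⁻¹ * z⁻¹) * w⁻¹ := by group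
        _ = b * z * b⁻¹ * z⁻¹ := by rw [hbw, hc, mul_inv_cancel_right]
    · intro w hw
      rw [mem_normalizer_iff]
      intro z
      have hcw : ∀ y ∈ U, w * y * w⁻¹ = y := fun y hy => by
        rw [mem_centralizer_iff.mp (hUc hy) w ((omegaOneCenter_props p _).1 (hWU hw)),
          mul_inv_cancel_right]
      constructor
      · intro hz; rw [hcw z hz.1]; exact hz
      · intro hz
        have hzU : z ∈ U := by
          have h1 := U.mul_mem (U.mul_mem (inv_mem (hWU hw)) hz.1) (hWU hw)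
          convert h1 using 1
          group
        rwa [hcw z hzU] at hz
  have hEK : E ≤ K := by
    conv_lhs => rw [← hE.2.1]
    rw [commutator_le]
    intro e he b hb
    rw [commutatorElement_def]
    exact mul_mem (hKn e (hN E hEU hEZ he) b (hBK hb)) (inv_mem (hBK hb))
  apply card_quot_ne_one hE
  rw [← index_eq_card, index_eq_one, eq_top_iff]
  intro e _
  obtain ⟨e', he', hee⟩ := hfaith e e.2 (hEK e.2).2
  rwa [Subtype.ext hee] at he'

end Cfsg.Agent.Lib.BTBlock
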