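import Cfsg.Agent.Lib.SL2.Basic

/-!
# Irreducibility of natural modules over the prime field
-/

set_option autoImplicit false

namespace Cfsg.Agent.Lib.BTBlock

open Matrix Cfsg.Agent.Lib.SL2
open scoped commutatorElement

section SL2

variable {F : Type*} [Field F]

theorem upper_mulVec (t : F) (v : Fin 2 → F) :
    ((upper t : SLtwo F) : Matrix (Fin 2) (Fin 2) F).mulVec v = ![v 0 + t * v 1, v 1] := by
  funext i
  fin_cases i <;> simp [Matrix.mulVec, dotProduct, Fin.sum_univ_two]

theorem lower_mulVec (t : F) (v : Fin 2 → F) :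
    ((lower t : SLtwo F) : Matrix (Fin 2) (Fin 2) F).mulVec v = ![v 0, t * v 0 + v 1] := by
  funext i
  fin_cases i <;> simp [Matrix.mulVec, dotProduct, Fin.sum_univ_two]

theorem commutator_mem_derived (g h : SLtwo F) : ⁅g, h⁆ ∈ commutator (SLtwo F) := by
  rw [commutator_def]
  exact Subgroup.commutator_mem_commutator (Subgroup.mem_top _) (Subgroup.mem_top _)

/-- An additive subgroup stable under the derived group of `SL₂` is trivial or everything. -/
theorem addSubgroup_eq_bot_or_top (S : AddSubgroup (Fin 2 → F))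
    (h : ∀ g ∈ commutator (SLtwo F), ∀ v ∈ S,
      (g : Matrix (Fin 2) (Fin 2) F).mulVec v ∈ S) : S = ⊥ ∨ S = ⊤ := by
  classical
  rcases eq_or_ne S ⊥ with hS | hS
  · exact Or.inl hS
  right
  obtain ⟨⟨v, hv⟩, hne⟩ : ∃ v : S, v ≠ 0 := by
    by_contra hc
    push Not at hc
    exact hS (eq_bot_iff.mpr fun x hx => by simpa using congrArg Subtype.val (hc ⟨x, hx⟩))
  have hv0 : v ≠ 0 := fun h => hne (Subtype.ext h)
  by_cases ha : ∃ a : Fˣ, (a : F) ^ 2 ≠ 1
  · obtain ⟨a, ha⟩ := ha
    have hup : ∀ t : F, upper t ∈ commutator (SLtwo F) := fun t => by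
      have hc := commutator_mem_derived (diag a) (upper (t / ((a : F) ^ 2 - 1)))
      rw [commutatorElement_def, diag_conj_upper, upper_inv, upper_mul] at hc
      have hne : (a : F) ^ 2 - 1 ≠ 0 := sub_ne_zero.mpr ha
      convert hc using 2
      field_simp
      ring
    have hlo : ∀ t : F, lower t ∈ commutator (SLtwo F) := fun t => by
      have hn : (commutator (SLtwo F)).Normal := inferInstance
      have := hn.conj_mem _ (hup (-t)) weyl
      rwa [weyl_conj_upper, neg_neg] at this
    have e1 : ∀ t : F, ![t * v 1, 0] ∈ S := fun t => by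
      have := S.sub_mem (h _ (hup t) v hv) hv
      rw [upper_mulVec] at this
      convert this using 1
      funext i; fin_cases i <;> simp
    have e2 : ∀ t : F, ![0, t * v 0] ∈ S := fun t => by
      have := S.sub_mem (h _ (hlo t) v hv) hv
      rw [lower_mulVec] at this
      convert this using 1
      funext i; fin_cases i <;> simp
    have hboth : (∀ s : F, ![s, 0] ∈ S) ∧ ∀ s : F, ![0, s] ∈ S := by
      by_cases h1 : v 1 = 0
      · have h0 : v 0 ≠ 0 := fun h0 => hv0 (by funext i; fin_cases i <;> assumption)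
        have hy : ∀ s : F, ![0, s] ∈ S := fun s => by
          simpa [div_mul_cancel₀ _ h0] using e2 (s / v 0)
        refine ⟨fun s => ?_, hy⟩
        have := S.sub_mem (h _ (hup s) _ (hy 1)) (hy 1)
        rw [upper_mulVec] at this
        convert this using 1
        funext i; fin_cases i <;> simp
      · have hx : ∀ s : F, ![s, 0] ∈ S := fun s => by
          simpa [div_mul_cancel₀ _ h1] using e1 (s / v 1)
        refine ⟨hx, fun s => ?_⟩
        have := S.sub_mem (h _ (hlo s) _ (hx 1)) (hx 1)
        rw [lower_mulVec] at this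
        convert this using 1
        funext i; fin_cases i <;> simp
    refine eq_top_iff.mpr fun w _ => ?_
    have := S.add_mem (hboth.1 (w 0)) (hboth.2 (w 1))
    convert this using 1
    funext i; fin_cases i <;> simp
  · push Not at ha
    have hsq : ∀ x : F, x ≠ 0 → x = 1 ∨ x = -1 := fun x hx =>
      sq_eq_one_iff.mp (ha (Units.mk0 x hx))
    have hsmul : ∀ (x : F) (w : Fin 2 → F), w ∈ S → x • w ∈ S := fun x w hw => by
      rcases eq_or_ne x 0 with rfl | hx
      · rw [zero_smul]; exact S.zero_mem
      rcases hsq x hx with rfl | rfl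
      · rwa [one_smul]
      · rw [neg_smul, one_smul]; exact S.neg_mem hw
    refine eq_top_iff.mpr fun w _ => by_contra fun hw => ?_
    -- a proper invariant subgroup is a common eigenline
    have hline : ∀ u ∈ S, u 0 * v 1 = u 1 * v 0 := fun u hu => by
      by_contra hd
      have hd' : u 0 * v 1 - u 1 * v 0 ≠ 0 := sub_ne_zero.mpr hd
      apply hw
      have := S.add_mem (hsmul ((w 0 * v 1 - w 1 * v 0) / (u 0 * v 1 - u 1 * v 0)) u hu)
        (hsmul ((u 0 * w 1 - u 1 * w 0) / (u 0 * v 1 - u 1 * v 0)) v hv)
      convert this using 1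
      generalize hdd : u 0 * v 1 - u 1 * v 0 = d at hd' ⊢
      funext i
      fin_cases i
      · simp only [Fin.zero_eta, Fin.mk_one, Pi.add_apply, Pi.smul_apply, smul_eq_mul]
        field_simp
        linear_combination (-(w 0)) * hdd
      · simp only [Fin.zero_eta, Fin.mk_one, Pi.add_apply, Pi.smul_apply, smul_eq_mul]
        field_simp
        linear_combination (-(w 1)) * hdd
    set g : SLtwo F := ⁅upper (1 : F), lower (1 : F)⁆ with hg
    have hgm : g ∈ commutator (SLtwo F) := commutator_mem_derived _ _
    have hgval : ∀ u : Fin 2 → F, (g : Matrix (Fin 2) (Fin 2) F).mulVec u = ![3 * u 0 - u 1, u 0] := by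
      intro u
      have e : (g : SLtwo F) = upper 1 * (lower 1 * (upper (-1) * lower (-1))) := by
        rw [hg, commutatorElement_def, upper_inv, lower_inv]; simp only [mul_assoc]
      rw [e, Matrix.SpecialLinearGroup.coe_mul, ← Matrix.mulVec_mulVec,
        Matrix.SpecialLinearGroup.coe_mul, ← Matrix.mulVec_mulVec,
        Matrix.SpecialLinearGroup.coe_mul, ← Matrix.mulVec_mulVec, lower_mulVec, upper_mulVec,
        lower_mulVec, upper_mulVec]
      funext i; fin_cases i <;> simp <;> ring
    have hn : (commutator (SLtwo F)).Normal := inferInstance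
    have key : ∀ s : F,
        ((3 : F) * (v 0 + s * v 1) - v 1 - s * (v 0 + s * v 1)) * v 1 = (v 0 + s * v 1) * v 0 := by
      intro s
      have h2 := h _ (hn.conj_mem g hgm (upper (-s))) v hv
      rw [upper_inv, neg_neg, Matrix.SpecialLinearGroup.coe_mul, ← Matrix.mulVec_mulVec,
        Matrix.SpecialLinearGroup.coe_mul, ← Matrix.mulVec_mulVec, upper_mulVec, hgval,
        upper_mulVec] at h2
      have := hline _ h2
      simp only [Matrix.cons_val_zero, Matrix.cons_val_one] at this
      linear_combination this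
    have k0 := key 0
    have k1 := key 1
    have k2 := key (-1)
    rcases eq_or_ne (v 1) 0 with h1 | h1
    · refine hv0 ?_
      have h0 : v 0 ^ 2 = 0 := by rw [h1] at k0; linear_combination -k0
      funext i; fin_cases i
      · simpa using h0
      · exact h1
    have h2 : (2 : F) = 0 := by
      have h3 : (2 : F) * v 1 ^ 2 = 0 := by linear_combination 2 * k0 - k1 - k2
      rcases mul_eq_zero.mp h3 with h | h
      · exact h
      · exact absurd h (pow_ne_zero 2 h1)
    have hone : ∀ x : F, x ≠ 0 → x = 1 := fun x hx => by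
      rcases hsq x hx with h | h
      · exact h
      · rw [h]; linear_combination -h2
    have h11 := hone _ h1
    rcases eq_or_ne (v 0) 0 with h0 | h0
    · rw [h0, h11] at k0; exact one_ne_zero (α := F) (by linear_combination -k0)
    · rw [hone _ h0, h11] at k0; exact one_ne_zero (α := F) (by linear_combination k0)

end SL2

section Alternating

variable {n : ℕ}

/-- A three-cycle as a product of two transpositions. -/
theorem exists_three_cycle {i j k : Fin n} (hij : i ≠ j) (hik : i ≠ k) (hjk : j ≠ k) :
    ∃ σ ∈ alternatingGroup (Fin n), σ i = j ∧ σ j = k ∧ σ k = i ∧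
      ∀ l, l ≠ i → l ≠ j → l ≠ k → σ l = l := by
  refine ⟨Equiv.swap i j * Equiv.swap j k, ?_, ?_, ?_, ?_, ?_⟩
  · simp [Equiv.Perm.mem_alternatingGroup, hij, hjk]
  · simp [Equiv.Perm.mul_apply, Equiv.swap_apply_of_ne_of_ne hij hik]
  · simp [Equiv.Perm.mul_apply, Equiv.swap_apply_of_ne_of_ne hik.symm hjk.symm]
  · simp [Equiv.Perm.mul_apply]
  · intro l h1 h2 h3
    simp [Equiv.Perm.mul_apply, Equiv.swap_apply_of_ne_of_ne, h1, h2, h3]

/-- A nonzero subgroup of even vectors stable under the alternating group contains all of them. -/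
theorem mem_of_sum_eq_zero (hn : Odd n) (S : AddSubgroup (Fin n → ZMod 2))
    (hS : ∀ σ ∈ alternatingGroup (Fin n), ∀ v ∈ S, (fun l => v (σ l)) ∈ S)
    {v : Fin n → ZMod 2} (hv : v ∈ S) (hv0 : v ≠ 0) (hev : ∑ l, v l = 0) :
    ∀ w : Fin n → ZMod 2, ∑ l, w l = 0 → w ∈ S := by
  classical
  have z2 : ∀ x : ZMod 2, x = 0 ∨ x = 1 := by decide
  obtain ⟨i, hi⟩ : ∃ i, v i = 1 := by
    by_contra hc
    push Not at hc
    exact hv0 (funext fun l => (z2 (v l)).resolve_right (hc l))
  obtain ⟨j, hj⟩ : ∃ j, v j = 0 := by
    by_contra hc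
    push Not at hc
    rw [Finset.sum_congr rfl (g := fun _ => (1 : ZMod 2)) fun l _ => (z2 (v l)).resolve_left (hc l),
      Finset.sum_const, Finset.card_univ, Fintype.card_fin, nsmul_eq_mul, mul_one,
      ZMod.natCast_eq_zero_iff_even] at hev
    exact Nat.not_even_iff_odd.mpr hn hev
  have hij : i ≠ j := fun h => by rw [h, hj] at hi; exact zero_ne_one hi
  obtain ⟨k, hki, hkj⟩ : ∃ k, k ≠ i ∧ k ≠ j := by
    by_contra hc
    push Not at hc
    have h2 : (Finset.univ : Finset (Fin n)) ⊆ {i, j} := fun l _ => by
      by_cases hl : l = i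
      · simp [hl]
      · simp [hc l hl]
    have := Finset.card_le_card h2
    rw [Finset.card_univ, Fintype.card_fin, Finset.card_pair hij] at this
    have h1 : n = 1 ∨ n = 2 := by
      have := i.isLt
      omega
    rcases h1 with rfl | rfl
    · exact hij (Subsingleton.elim _ _)
    · exact Nat.not_even_iff_odd.mpr hn ⟨1, rfl⟩
  let pair : Fin n → Fin n → Fin n → ZMod 2 := fun a b => Pi.single a 1 + Pi.single b 1
  -- one pair
  obtain ⟨a, b, hab, habS⟩ : ∃ a b, a ≠ b ∧ pair a b ∈ S := by
    obtain ⟨σ, hσ, s1, s2, s3, s4⟩ := exists_three_cycle hij hki.symm hkj.symm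
    have hw := S.add_mem hv (hS σ hσ v hv)
    rcases z2 (v k) with hk | hk
    · refine ⟨i, k, hki.symm, ?_⟩
      convert hw using 1
      funext l
      simp only [pair, Pi.add_apply]
      by_cases l1 : l = i
      · subst l1; simp [s1, hi, hj, hki.symm]
      by_cases l2 : l = j
      · subst l2; simp [s2, hk, hj, hij.symm, hkj.symm]
      by_cases l3 : l = k
      · subst l3; simp [s3, hk, hi, hki]
      rw [s4 l l1 l2 l3]
      simp [l1, l3, CharTwo.add_self_eq_zero]
    · refine ⟨i, j, hij, ?_⟩
      convert hw using 1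
      funext l
      simp only [pair, Pi.add_apply]
      by_cases l1 : l = i
      · subst l1; simp [s1, hi, hj, hij]
      by_cases l2 : l = j
      · subst l2; simp [s2, hk, hj, hij.symm]
      by_cases l3 : l = k
      · subst l3; simp [s3, hk, hi, hki, hkj, CharTwo.add_self_eq_zero]
      rw [s4 l l1 l2 l3]
      simp [l1, l2, CharTwo.add_self_eq_zero]
  -- all pairs through one point
  have hall : ∀ c, c ≠ a → pair a c ∈ S := fun c hca => by
    rcases eq_or_ne c b with rfl | hcb
    · exact habS
    obtain ⟨σ', hσ', t1, t2, t3, t4⟩ := exists_three_cycle (i := a) (j := b) (k := c) hab hca.symm hcb.symm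
    -- `σ'` moves the support `{c, a}` onto `{a, b}`
    convert hS σ' hσ' _ habS using 1
    funext l
    simp only [pair, Pi.add_apply]
    by_cases l1 : l = a
    · subst l1; simp [t1, hab, hca.symm, hab.symm]
    by_cases l2 : l = b
    · subst l2; simp [t2, hca, hcb, hcb.symm, l1]
    by_cases l3 : l = c
    · subst l3; simp [t3, hca, hab, hcb]
    rw [t4 l l1 l2 l3]
    simp [l1, l2, l3]
  intro w hw
  have hws : w = ∑ c, w c • pair a c := by
    funext l
    simp only [Finset.sum_apply, Pi.smul_apply, pair, Pi.add_apply, smul_eq_mul, mul_add,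
      Finset.sum_add_distrib, ← Finset.sum_mul, hw, zero_mul, zero_add]
    rw [Finset.sum_eq_single l (fun c _ hc => by simp [hc.symm]) (by simp)]
    simp
  rw [hws]
  refine S.sum_mem fun c _ => ?_
  rcases z2 (w c) with h | h
  · rw [h, zero_smul]; exact S.zero_mem
  · rw [h, one_smul]
    rcases eq_or_ne c a with rfl | hca
    · convert S.zero_mem using 1
      funext l
      simp [pair, CharTwo.add_self_eq_zero]
    · exact hall c hca

end Alternating

end Cfsg.Agent.Lib.BTBlock
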