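import Cfsg.Agent.Lib.BTBlock.Basic

/-!
# The natural module inside a block
-/

set_option autoImplicit false

namespace Cfsg.Agent.Lib.BTBlock

open Subgroup Cfsg Matrix
open scoped commutatorElement

universe u

variable {G : Type u} [Group G] {p : ℕ}

/-- The elements of `omegaOneCenter` are central and of exponent dividing `p`. -/
theorem omegaOneCenter_props (p : ℕ) (X : Subgroup G) :
    omegaOneCenter p X ≤ X ∧ omegaOneCenter p X ≤ centralizer (X : Set G) ∧
      ∀ x ∈ omegaOneCenter p X, x ^ p = 1 := by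
  refine ⟨(Amalgam.omegaOne_le p _).trans inf_le_left,
    (Amalgam.omegaOne_le p _).trans inf_le_right, fun x hx => ?_⟩
  have hcomm : ∀ a ∈ omegaOneCenter p X, ∀ b ∈ omegaOneCenter p X, Commute a b := fun a ha b hb =>
    mem_centralizer_iff.mp ((Amalgam.omegaOne_le p _).trans inf_le_right hb) a
      ((Amalgam.omegaOne_le p _).trans inf_le_left ha)
  induction hx using closure_induction with
  | mem y hy => exact hy.2
  | one => exact one_pow p
  | mul y z hy hz h1 h2 => rw [(hcomm y hy z hz).mul_pow, h1, h2, one_mul]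
  | inv y hy h1 => rw [inv_pow, h1, inv_one]

variable [Finite G] [Fact p.Prime] {T : Sylow p G} {E : Subgroup G}

/-- The quotient of a block by its `p`-core is nontrivial. -/
theorem card_quot_ne_one (hE : IsBaumannBlock p (T : Subgroup G) E) :
    Nat.card (E ⧸ pCore p E) ≠ 1 := by
  intro h
  have htop : pCore p E = ⊤ := index_eq_one.mp (by rw [index_eq_card, h])
  have hp : IsPGroup p E := by
    have h1 := Amalgam.isPGroup_pCoreOf (p := p) E
    rw [pCoreOf, htop, ← MonoidHom.range_eq_map, range_subtype] at h1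
    exact h1
  have hbot : E = ⊥ := by
    rw [← hE.1, pResidualOf_eq_closure, closure_eq_bot_iff]
    rintro x ⟨hx, hxo⟩
    obtain ⟨k, hk⟩ := IsPGroup.iff_orderOf.mp hp ⟨x, hx⟩
    rw [orderOf_mk] at hk
    rw [hk] at hxo
    rw [Set.mem_singleton_iff, ← orderOf_eq_one_iff, hk]
    exact Nat.eq_one_of_dvd_coprimes (hxo.pow_right k) dvd_rfl dvd_rfl
  exact hE.2.2.2.1 (by rw [hbot]; exact commutator_bot_left _)

/-- The properties of a section `U / Z` on which `E` acts through a faithful irreducible image of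
the same order as `E / O_p(E)`. -/
theorem section_facts_of_hom {K : Type*} [Group K] {V : Type*} [AddCommGroup V]
    {U Z : Subgroup G} (hEU : E ≤ normalizer (U : Set G)) (ρ : E →* K) (act : K → V → V)
    (ψ : U →* Multiplicative V) (hψ : ∀ u : U, ψ u = 1 ↔ (u : G) ∈ Z)
    (hequiv : ∀ (e : E) (u : U), ∃ w : U, (w : G) = (e : G) * u * (e : G)⁻¹ ∧
      Multiplicative.toAdd (ψ w) = act (ρ e) (Multiplicative.toAdd (ψ u)))
    (hQ : ∀ q ∈ pCoreOf p E, ∀ u ∈ U, q * u * q⁻¹ * u⁻¹ ∈ Z)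
    (hcard : Nat.card ρ.range = Nat.card (E ⧸ pCore p E))
    (hfaith : ∀ k ∈ ρ.range, (∀ u : U, act k (Multiplicative.toAdd (ψ u)) =
      Multiplicative.toAdd (ψ u)) → k = 1)
    (hirr : ∀ A : AddSubgroup V, (∀ v ∈ A, ∃ u : U, Multiplicative.toAdd (ψ u) = v) →
      (∀ k ∈ ρ.range, ∀ v ∈ A, act k v ∈ A) →
        (∀ v ∈ A, v = 0) ∨ ∀ u : U, Multiplicative.toAdd (ψ u) ∈ A)
    (hnt : ∃ u : U, ψ u ≠ 1) :
    (∀ S : Subgroup G, Z ≤ S → S ≤ U → E ≤ normalizer (S : Set G) → S = Z ∨ S = U) ∧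
      (∀ e ∈ E, (∀ u ∈ U, e * u * e⁻¹ * u⁻¹ ∈ Z) → e ∈ pCoreOf p E) ∧ Z ≠ U := by
  have hdiff : ∀ a b : U, ψ a = ψ b ↔ (a : G) * (b : G)⁻¹ ∈ Z := fun a b => by
    rw [← mul_inv_eq_one (a := ψ a), ← map_inv, ← map_mul, hψ]; rfl
  have hact : ∀ (e : E) (u : U) (w : U), (w : G) = (e : G) * u * (e : G)⁻¹ →
      Multiplicative.toAdd (ψ w) = act (ρ e) (Multiplicative.toAdd (ψ u)) := fun e u w hw => by
    obtain ⟨w', hw', h⟩ := hequiv e u
    rwa [show w = w' from Subtype.ext (hw.trans hw'.symm)]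
  have hker : pCore p E = ρ.ker := by
    refine eq_of_le_of_card_ge (fun q hq => hfaith _ ⟨q, rfl⟩ fun u => ?_) (le_of_eq ?_)
    · obtain ⟨w, hw, h2⟩ := hequiv q u
      rw [← h2]
      congr 1
      rw [hdiff, hw]
      exact hQ _ ⟨q, hq, rfl⟩ u u.2
    · have h1 := ρ.ker.card_mul_index
      have h2 := (pCore p E).card_mul_index
      rw [index_ker, hcard] at h1
      rw [index_eq_card, ← h1] at h2
      exact (Nat.eq_of_mul_eq_mul_right Nat.card_pos h2).symm
  refine ⟨fun S hZS hSU hES => ?_, fun e he h => ?_, ?_⟩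
  · let A : AddSubgroup V :=
      { carrier := {v | ∃ u : U, (u : G) ∈ S ∧ Multiplicative.toAdd (ψ u) = v}
        zero_mem' := ⟨1, S.one_mem, by simp⟩
        add_mem' := by
          rintro _ _ ⟨a, ha, rfl⟩ ⟨b, hb, rfl⟩
          exact ⟨a * b, S.mul_mem ha hb, by simp⟩
        neg_mem' := by
          rintro _ ⟨a, ha, rfl⟩
          exact ⟨a⁻¹, S.inv_mem ha, by simp⟩ }
    rcases hirr A (fun v ⟨u, _, hu⟩ => ⟨u, hu⟩) (by
        rintro _ ⟨e, rfl⟩ _ ⟨u, hu, rfl⟩
        obtain ⟨w, hw, h⟩ := hequiv e u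
        exact ⟨w, by rw [hw]; exact (conj_mem_iff (hES e.2) _).mpr hu, h⟩) with h | h
    · refine Or.inl (le_antisymm (fun x hx => ?_) hZS)
      exact (hψ ⟨x, hSU hx⟩).mp (Multiplicative.toAdd.injective
        ((h _ ⟨⟨x, hSU hx⟩, hx, rfl⟩).trans rfl))
    · refine Or.inr (le_antisymm hSU fun x hx => ?_)
      obtain ⟨u, hu, he⟩ := h ⟨x, hx⟩
      have := (hdiff ⟨x, hx⟩ u).mp (Multiplicative.toAdd.injective he.symm)
      simpa using S.mul_mem (hZS this) hu
  · have h1 : ρ ⟨e, he⟩ = 1 := hfaith _ ⟨_, rfl⟩ fun u => by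
      obtain ⟨w, hw, h2⟩ := hequiv ⟨e, he⟩ u
      rw [← h2]
      congr 1
      rw [hdiff, hw]
      exact h u u.2
    exact ⟨⟨e, he⟩, hker.ge h1, rfl⟩
  · intro h
    obtain ⟨u, hu⟩ := hnt
    exact hu ((hψ u).mpr (h.ge u.2))

/-- The natural module `U / Z` of a block, `U = Ω₁(Z(O_p(E)))` and `Z = C_U(E)`. -/
theorem block_section (hE : IsBaumannBlock p (T : Subgroup G) E) :
    (∀ S : Subgroup G, omegaOneCenter p (pCoreOf p E) ⊓ centralizer (E : Set G) ≤ S →
        S ≤ omegaOneCenter p (pCoreOf p E) → E ≤ normalizer (S : Set G) →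
        S = omegaOneCenter p (pCoreOf p E) ⊓ centralizer (E : Set G) ∨
          S = omegaOneCenter p (pCoreOf p E)) ∧
      (∀ e ∈ E, (∀ u ∈ omegaOneCenter p (pCoreOf p E),
          e * u * e⁻¹ * u⁻¹ ∈ omegaOneCenter p (pCoreOf p E) ⊓ centralizer (E : Set G)) →
        e ∈ pCoreOf p E) ∧
      omegaOneCenter p (pCoreOf p E) ⊓ centralizer (E : Set G) ≠
        omegaOneCenter p (pCoreOf p E) := by
  classical
  set U := omegaOneCenter p (pCoreOf p E) with hU
  have hQ : ∀ q ∈ pCoreOf p E, ∀ u ∈ U, q * u * q⁻¹ * u⁻¹ ∈ U ⊓ centralizer (E : Set G) :=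
    fun q hq u hu => by
      rw [mem_centralizer_iff.mp ((omegaOneCenter_props p _).2.1 hu) q hq, mul_inv_cancel_right,
        mul_inv_cancel]
      exact one_mem _
  have hcard1 := card_quot_ne_one hE
  rcases hE.2.2.2.2 with ⟨F, _, _, n, -, ⟨iso⟩, hact, -⟩ | ⟨-, m, ⟨iso⟩, hact, -⟩
  · obtain ⟨hEU, -, ρ, ψ, hr, hsurj, hψ, hequiv⟩ := hact
    refine section_facts_of_hom hEU ρ
      (fun k v => ((k : Matrix.SpecialLinearGroup (Fin 2) F) : Matrix (Fin 2) (Fin 2) F).mulVec v)
      ψ hψ hequiv hQ (by rw [hr]; exact (Nat.card_congr iso.toEquiv).symm) ?_ ?_ ?_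
    · intro k _ h
      refine Matrix.SpecialLinearGroup.ext _ _ fun i j => ?_
      obtain ⟨u, hu⟩ := hsurj (Multiplicative.ofAdd (Pi.single j 1))
      have := congrFun (h u) i
      rw [hu] at this
      simpa [Matrix.one_apply, Pi.single_apply] using this
    · intro A _ hA
      rcases addSubgroup_eq_bot_or_top A (fun g hg v hv => hA g (hr.ge hg) v hv) with h | h
      · exact Or.inl fun v hv => by simpa [h] using hv
      · exact Or.inr fun u => h ▸ AddSubgroup.mem_top _
    · obtain ⟨u, hu⟩ := hsurj (Multiplicative.ofAdd (Pi.single 0 1))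
      refine ⟨u, fun h => ?_⟩
      rw [h] at hu
      have := congrFun (congrArg Multiplicative.toAdd hu) 0
      simp at this
  · obtain ⟨hEU, -, ρ, ψ, hr, heven, hall, hψ, hequiv⟩ := hact
    have hm : 1 ≤ m := by
      by_contra hm
      obtain rfl : m = 0 := by omega
      apply hcard1
      rw [Nat.card_congr iso.toEquiv]
      have : Subsingleton (Fin (2 * 0 + 1)) := by rw [mul_zero, zero_add]; infer_instance
      exact Nat.card_unique
    have hpair : ∀ a b : Fin (2 * m + 1), a ≠ b →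
        ∑ i, (Pi.single a 1 + Pi.single b 1 : Fin (2 * m + 1) → ZMod 2) i = 0 := fun a b _ => by
      simp [Finset.sum_add_distrib]; decide
    refine section_facts_of_hom hEU ρ (fun k v i => v (k⁻¹ i)) ψ hψ
      (fun e u => by
        obtain ⟨w, hw, h⟩ := hequiv e u
        exact ⟨w, hw, funext h⟩)
      hQ (by rw [hr]; exact (Nat.card_congr iso.toEquiv).symm) ?_ ?_ ?_
    · intro k _ h
      rw [← inv_eq_one]
      refine Equiv.ext fun i => by_contra fun hne => ?_
      obtain ⟨l, hl, hl'⟩ : ∃ l, l ≠ i ∧ l ≠ k⁻¹ i := by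
        by_contra hc
        push Not at hc
        have h2 : (Finset.univ : Finset (Fin (2 * m + 1))) ⊆ {i, k⁻¹ i} := fun l _ => by
          by_cases hl : l = i
          · simp [hl]
          · simp [hc l hl]
        have := (Finset.card_le_card h2).trans Finset.card_le_two
        rw [Finset.card_univ, Fintype.card_fin] at this
        omega
      obtain ⟨u, hu⟩ := hall _ (hpair i l hl.symm)
      have := congrFun (h u) i
      rw [hu] at this
      simp only [Equiv.Perm.one_apply] at hne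
      simp only [Pi.add_apply, Pi.single_eq_of_ne hne, Pi.single_eq_of_ne hl'.symm,
        Pi.single_eq_same, Pi.single_eq_of_ne hl.symm] at this
      simp at this
    · intro A hA' hA
      by_cases h0 : ∀ v ∈ A, v = 0
      · exact Or.inl h0
      push Not at h0
      obtain ⟨v, hv, hv0⟩ := h0
      obtain ⟨u, hu⟩ := hA' v hv
      refine Or.inr fun u' => mem_of_sum_eq_zero ⟨m, rfl⟩ A ?_ hv hv0 (hu ▸ heven u) _ (heven u')
      intro σ hσ w hw
      simpa using hA σ⁻¹ (hr.ge (inv_mem hσ)) w hw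
    · obtain ⟨u, hu⟩ := hall _ (hpair ⟨0, by omega⟩ ⟨1, by omega⟩ (by simp))
      refine ⟨u, fun h => ?_⟩
      rw [h] at hu
      have := congrFun hu ⟨0, by omega⟩
      simp at this

/-- `E` normalises `Ω₁(Z(O_p(E)))` and its fixed points. -/
theorem le_normalizer_section (E : Subgroup G) {X : Subgroup G}
    (hX : X ≤ normalizer (E : Set G)) :
    X ≤ normalizer (pCoreOf p E : Set G) ∧
      X ≤ normalizer (omegaOneCenter p (pCoreOf p E) : Set G) ∧
      X ≤ normalizer ((omegaOneCenter p (pCoreOf p E) ⊓ centralizer (E : Set G) : Subgroup G) : Set G) := by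
  have h1 : X ≤ normalizer (pCoreOf p E : Set G) := fun x hx => by
    refine Amalgam.mem_normalizer_of_map_conj_eq ?_
    rw [← Amalgam.pCoreOf_map E (MulAut.conj x).injective,
      Amalgam.map_conj_eq_of_mem_normalizer (hX hx)]
  have h2 : X ≤ normalizer (omegaOneCenter p (pCoreOf p E) : Set G) := fun x hx => by
    have hm := Amalgam.map_conj_eq_of_mem_normalizer (h1 hx)
    refine Amalgam.mem_normalizer_of_map_conj_eq ?_
    rw [omegaOneCenter, ← Amalgam.omegaOne_map' _ (MulAut.conj x).injective,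
      Amalgam.inf_centralizer_map _ _ (MulAut.conj x).injective, hm]
  exact ⟨h1, h2, Coprime.le_normalizer_inf_centralizer h2 hX⟩

end Cfsg.Agent.Lib.BTBlock
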